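import Mathlib

/-!
# 2-parts of the orders of orthogonal groups
-/

set_option autoImplicit false
set_option linter.style.haveILetI false

namespace CfsgLib.OrthSylow

/-- The exponent `a` of the 2-part of the torus of the plane with square discriminant class. -/
def torusExp (q : ℕ) : ℕ := padicValNat 2 (if q % 4 = 1 then q - 1 else q + 1)

variable {q : ℕ} (hq : Odd q) (hq3 : 3 ≤ q)

include hq hq3 in
theorem sum_val : padicValNat 2 (q + 1) + padicValNat 2 (q - 1) = torusExp q + 1 := by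
  haveI : Fact (Nat.Prime 2) := ⟨Nat.prime_two⟩
  have h1 : ∀ x : ℕ, x % 4 = 2 → padicValNat 2 x = 1 := fun x hx => by
    obtain ⟨k, rfl⟩ : ∃ k, x = 2 * k := ⟨x / 2, by omega⟩
    rw [padicValNat.mul two_ne_zero (by omega), padicValNat_self,
      padicValNat.eq_zero_of_not_dvd (by omega)]
  unfold torusExp
  obtain ⟨r, rfl⟩ := hq
  split_ifs with h
  · rw [h1 _ (by omega)]; omega
  · rw [h1 (2 * r + 1 - 1) (by omega)]

include hq hq3 in
theorem val_even_pow {i : ℕ} (hi : i ≠ 0) :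
    padicValNat 2 (q ^ (2 * i) - 1) = torusExp q + 1 + padicValNat 2 i := by
  haveI : Fact (Nat.Prime 2) := ⟨Nat.prime_two⟩
  have hq2 : ¬ 2 ∣ q := by obtain ⟨r, rfl⟩ := hq; omega
  have h := padicValNat.pow_two_sub_pow (x := q) (y := 1) (n := 2 * i) (by omega)
    (by obtain ⟨r, rfl⟩ := hq; omega) hq2 (by omega) ⟨i, by omega⟩
  have hs := sum_val hq hq3
  rw [one_pow, padicValNat.mul two_ne_zero hi, padicValNat_self] at h
  omega

include hq hq3 in
theorem val_pow (m : ℕ) (hm : m ≠ 0) :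
    (q ^ m % 4 = 1 → padicValNat 2 (q ^ m - 1) = torusExp q + padicValNat 2 m ∧
        padicValNat 2 (q ^ m + 1) = 1) ∧
      (q ^ m % 4 ≠ 1 → padicValNat 2 (q ^ m + 1) = torusExp q + padicValNat 2 m ∧
        padicValNat 2 (q ^ m - 1) = 1) := by
  haveI : Fact (Nat.Prime 2) := ⟨Nat.prime_two⟩
  have h1 : ∀ x : ℕ, x % 4 = 2 → padicValNat 2 x = 1 := fun x hx => by
    obtain ⟨k, rfl⟩ : ∃ k, x = 2 * k := ⟨x / 2, by omega⟩
    rw [padicValNat.mul two_ne_zero (by omega), padicValNat_self,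
      padicValNat.eq_zero_of_not_dvd (by omega)]
  have hlt : 1 < q ^ m := Nat.one_lt_pow hm (by omega)
  have hodd : q ^ m % 2 = 1 := Nat.odd_iff.1 hq.pow
  have hp : padicValNat 2 (q ^ m + 1) + padicValNat 2 (q ^ m - 1) =
      torusExp q + 1 + padicValNat 2 m := by
    rw [← val_even_pow hq hq3 hm, ← padicValNat.mul (by omega) (by omega)]
    congr 1
    rw [mul_comm 2 m, pow_mul, ← Nat.sq_sub_sq, one_pow]
  refine ⟨fun h => ?_, fun h => ?_⟩
  · have := h1 (q ^ m + 1) (by omega)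
    omega
  · have := h1 (q ^ m - 1) (by omega)
    omega

include hq hq3 in
theorem val_prod (k : ℕ) :
    padicValNat 2 (∏ i ∈ Finset.range k, (q ^ (2 * (i + 1)) - 1)) =
      k * (torusExp q + 1) + padicValNat 2 k.factorial := by
  haveI : Fact (Nat.Prime 2) := ⟨Nat.prime_two⟩
  have hne : ∀ i, q ^ (2 * (i + 1)) - 1 ≠ 0 := fun i => by
    have : 1 < q ^ (2 * (i + 1)) := Nat.one_lt_pow (by omega) (by omega)
    omega
  induction k with
  | zero => simp
  | succ k ih =>
    rw [Finset.prod_range_succ, padicValNat.mul (Finset.prod_ne_zero_iff.2 fun i _ => hne i) (hne k), ih,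
      val_even_pow hq hq3 (Nat.succ_ne_zero k), Nat.factorial_succ,
      padicValNat.mul (Nat.succ_ne_zero k) (Nat.factorial_ne_zero k)]
    ring

include hq in
theorem val_q_pow (e : ℕ) : padicValNat 2 (q ^ e) = 0 :=
  padicValNat.eq_zero_of_not_dvd fun h => by
    have := Nat.odd_iff.1 (hq.pow (n := e))
    omega

include hq hq3 in
theorem val_odd_type (m e : ℕ) :
    padicValNat 2 (2 * q ^ e * ∏ i ∈ Finset.range m, (q ^ (2 * (i + 1)) - 1)) =
      m * (torusExp q + 1) + 1 + padicValNat 2 m.factorial := by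
  haveI : Fact (Nat.Prime 2) := ⟨Nat.prime_two⟩
  have hne : (∏ i ∈ Finset.range m, (q ^ (2 * (i + 1)) - 1)) ≠ 0 :=
    Finset.prod_ne_zero_iff.2 fun i _ => by
      have : 1 < q ^ (2 * (i + 1)) := Nat.one_lt_pow (by omega) (by omega)
      omega
  have h0 : q ^ e ≠ 0 := pow_ne_zero _ (by omega)
  rw [padicValNat.mul (mul_ne_zero two_ne_zero h0) hne, padicValNat.mul two_ne_zero h0,
    padicValNat_self, val_q_pow hq, val_prod hq hq3]
  omega

/-- The even-dimensional orders: `c = 0` when the torus factor is large, else one plane fewer and two signs. -/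
theorem val_even_type (hq : Odd q) (hq3 : 3 ≤ q) (m e X : ℕ) (hX : X ≠ 0)
    (hv : padicValNat 2 X = torusExp q + padicValNat 2 (m + 1) ∨ padicValNat 2 X = 1) :
    padicValNat 2 (2 * q ^ e * X * ∏ i ∈ Finset.range m, (q ^ (2 * (i + 1)) - 1)) =
      if padicValNat 2 X = 1 then m * (torusExp q + 1) + 2 + padicValNat 2 m.factorial
      else (m + 1) * (torusExp q + 1) + padicValNat 2 (m + 1).factorial := by
  haveI : Fact (Nat.Prime 2) := ⟨Nat.prime_two⟩
  have hne : (∏ i ∈ Finset.range m, (q ^ (2 * (i + 1)) - 1)) ≠ 0 :=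
    Finset.prod_ne_zero_iff.2 fun i _ => by
      have : 1 < q ^ (2 * (i + 1)) := Nat.one_lt_pow (by omega) (by omega)
      omega
  have h0 : q ^ e ≠ 0 := pow_ne_zero _ (by omega)
  rw [padicValNat.mul (mul_ne_zero (mul_ne_zero two_ne_zero h0) hX) hne,
    padicValNat.mul (mul_ne_zero two_ne_zero h0) hX, padicValNat.mul two_ne_zero h0,
    padicValNat_self, val_q_pow hq, val_prod hq hq3, Nat.factorial_succ,
    padicValNat.mul (Nat.succ_ne_zero m) (Nat.factorial_ne_zero m)]
  split_ifs with h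
  · omega
  · rw [add_one_mul m (torusExp q + 1)]
    have := hv.resolve_right h
    simp only [Nat.succ_eq_add_one] at *; omega

include hq hq3 in
theorem two_le_torusExp : 2 ≤ torusExp q := by
  haveI : Fact (Nat.Prime 2) := ⟨Nat.prime_two⟩
  unfold torusExp
  obtain ⟨r, rfl⟩ := hq
  split_ifs with h
  · exact (padicValNat_dvd_iff_le (by omega)).1 (by omega : 2 ^ 2 ∣ 2 * r + 1 - 1)
  · exact (padicValNat_dvd_iff_le (by omega)).1 (by omega : 2 ^ 2 ∣ 2 * r + 1 + 1)

end CfsgLib.OrthSylow
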