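import Cfsg.Agent.OrthSylow.Model
import Cfsg.Agent.Quad.POmega
import Cfsg.Agent.Quad.NegOne
import Cfsg.Agent.QuadStd.DiscStd

/-!
# Sylow 2-subgroups of `Ω` have elementary abelian abelianisation
-/

set_option autoImplicit false
set_option linter.style.haveILetI false

namespace CfsgLib.OrthSylow

open QuadraticMap CfsgLib.Quad

/-- If some Sylow subgroup is generated by square-one elements, squares lie in the derived subgroup of any. -/
theorem sq_mem_commutator_of_generated {G : Type*} [Group G] [Finite G] (S : Sylow 2 G)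
    (hS : (S : Subgroup G) ≤ Subgroup.closure {g | g ∈ (S : Subgroup G) ∧ g * g = 1})
    (P : Sylow 2 G) : ∀ x : (P : Subgroup G), x ^ 2 ∈ commutator (P : Subgroup G) := by
  haveI : Fact (Nat.Prime 2) := ⟨Nat.prime_two⟩
  let e : (P : Subgroup G) ≃* (S : Subgroup G) := Sylow.equiv P S
  intro x
  have key : ∀ (g : G) (hg : g ∈ (S : Subgroup G)),
      (Abelianization.of (⟨g, hg⟩ : (S : Subgroup G))) ^ 2 = 1 := by
    intro g hg
    have hg' := hS hg
    revert hg
    induction hg' using Subgroup.closure_induction with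
    | mem y hy =>
      intro hg
      rw [← map_pow, show (⟨y, hg⟩ : (S : Subgroup G)) ^ 2 = 1 from
        Subtype.ext (by rw [SubgroupClass.coe_pow, pow_two]; exact hy.2), map_one]
    | one => intro hg; rw [show (⟨1, hg⟩ : (S : Subgroup G)) = 1 from rfl, map_one, one_pow]
    | mul a b ha hb iha ihb =>
      intro hg
      have hle : Subgroup.closure {g | g ∈ (S : Subgroup G) ∧ g * g = 1} ≤ (S : Subgroup G) :=
        (Subgroup.closure_le _).2 fun g h => h.1
      rw [show (⟨a * b, hg⟩ : (S : Subgroup G)) = ⟨a, hle ha⟩ * ⟨b, hle hb⟩ from rfl, map_mul, mul_pow,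
        iha, ihb, one_mul]
    | inv a ha iha =>
      intro hg
      rw [show (⟨a⁻¹, hg⟩ : (S : Subgroup G)) = ⟨a, (S : Subgroup G).inv_mem_iff.1 hg⟩⁻¹ from rfl,
        map_inv, inv_pow, iha, inv_one]
  rw [← CfsgLib.Quad.mem_commutator_equiv e, map_pow, ← Abelianization.ker_of, MonoidHom.mem_ker,
    map_pow]
  exact key _ (e x).2

variable {F : Type*} [Field F] [Finite F]

theorem finite_oGroup {W : Type*} [AddCommGroup W] [Module F W] [FiniteDimensional F W]
    (Q : QuadraticForm F W) : Finite (oGroup Q) := by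
  haveI : Finite W := Module.finite_of_finite F
  exact Finite.of_injective (fun g => (g.1 : W → W))
    fun g h e => Subtype.ext (LinearEquiv.ext (congrFun e))

/-- The statement for a form isometric to a model whose order has the right 2-part. -/
theorem sq_mem_of_model (h2 : (2 : F) ≠ 0) {W : Type*} [AddCommGroup W] [Module F W] [FiniteDimensional F W]
    {Q : QuadraticForm F W} {k r : ℕ} (hk : 2 ≤ k) {c : Fin r → F} (hc : ∀ j, c j ≠ 0)
    (e : W ≃ₗ[F] MV F k r) (he : ∀ v, mQ k c (e v) = Q v)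
    (hval : padicValNat 2 (Nat.card (oGroup Q)) =
      k * (torusExp (Nat.card F) + 1) + r + padicValNat 2 k.factorial)
    (P : Sylow 2 ↥(commutator (oGroup Q))) :
    ∀ x : (P : Subgroup ↥(commutator (oGroup Q))), x ^ 2 ∈ commutator (P : Subgroup ↥(commutator (oGroup Q))) := by
  haveI : Fact (Nat.Prime 2) := ⟨Nat.prime_two⟩
  haveI := finite_oGroup (mQ k c)
  haveI := finite_oGroup Q
  obtain ⟨D, -, hcard⟩ := exists_planeData (F := F) h2
  let P0 := sylowGroup D c k
  have hP0 : Nat.card P0 = 2 ^ (k * (torusExp (Nat.card F) + 1) + r + padicValNat 2 k.factorial) := by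
    rw [card_sylowGroup D c h2 hc, hcard, ← pow_mul, pow_add, pow_add, mul_comm (torusExp _ + 1) k]
  have hindex : ¬ 2 ∣ P0.index := by
    intro hdiv
    have h1 := P0.card_mul_index
    have hne : P0.index ≠ 0 := Subgroup.index_ne_zero_of_finite
    have h2' : padicValNat 2 (Nat.card (oGroup (mQ k c))) =
        k * (torusExp (Nat.card F) + 1) + r + padicValNat 2 k.factorial := by
      rw [← Nat.card_congr (oGroupCongr e he).toEquiv, hval]
    rw [← h1, padicValNat.mul Nat.card_pos.ne' hne, hP0, padicValNat.prime_pow] at h2'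
    have := one_le_padicValNat_of_dvd hne hdiv
    omega
  -- intersect with the commutator subgroup
  set N := commutator (oGroup (mQ k c))
  have hidx : ¬ 2 ∣ (P0.subgroupOf N).index := by
    change ¬ 2 ∣ P0.relIndex N
    have e1 := Subgroup.relIndex_mul_relIndex (P0 ⊓ N) N (P0 ⊔ N) inf_le_right le_sup_right
    have e2 := Subgroup.relIndex_mul_relIndex (P0 ⊓ N) P0 (P0 ⊔ N) inf_le_left le_sup_left
    rw [Subgroup.inf_relIndex_right, Subgroup.relIndex_sup_right] at e1
    rw [Subgroup.inf_relIndex_left] at e2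
    have hy : N.relIndex P0 ≠ 0 := Subgroup.index_ne_zero_of_finite
    have : P0.relIndex N = P0.relIndex (P0 ⊔ N) := by
      rw [← e2, mul_comm] at e1
      exact mul_left_cancel₀ hy e1
    rw [this]
    exact fun h => hindex (h.trans (Subgroup.relIndex_dvd_index_of_le le_sup_left))
  have hp : IsPGroup 2 (P0.subgroupOf N) := (IsPGroup.of_card hP0).comap_subtype
  let S : Sylow 2 ↥N := hp.toSylow hidx
  have hgen : (S : Subgroup ↥N) ≤ Subgroup.closure {g | g ∈ (S : Subgroup ↥N) ∧ g * g = 1} := by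
    intro g hg
    have h1 : (g : oGroup (mQ k c)) ∈ P0 ⊓ N := ⟨hg, g.2⟩
    have h3 : invols D c k ⊆ N.subtype '' {g | g ∈ (S : Subgroup ↥N) ∧ g * g = 1} := by
      rintro y ⟨⟨hy, hy'⟩, hyy⟩
      exact ⟨⟨y, hy'⟩, ⟨hy, Subtype.ext hyy⟩, rfl⟩
    have h4 := Subgroup.closure_mono h3 (le_closure_invols D c h2 hc hk h1)
    rw [← MonoidHom.map_closure] at h4
    obtain ⟨g', hg', e'⟩ := h4
    rwa [show g = g' from Subtype.ext e'.symm]
  -- transport
  let E : ↥(commutator (oGroup Q)) ≃* ↥N :=
    ((oGroupCongr e he).subgroupMap _).trans (MulEquiv.subgroupCongr (commutator_map_equiv (oGroupCongr e he)))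
  let S' : Sylow 2 ↥(commutator (oGroup Q)) := S.comapOfInjective E.toMonoidHom E.injective
    (by rw [MonoidHom.range_eq_top.2 E.surjective]; exact le_top)
  refine sq_mem_commutator_of_generated S' (fun g hg => ?_) P
  have h5 := hgen (show E g ∈ (S : Subgroup ↥N) from hg)
  have h6 : (E.symm : ↥N ≃* _).toMonoidHom (E g) ∈
      (Subgroup.closure {g | g ∈ (S : Subgroup ↥N) ∧ g * g = 1}).map (E.symm : ↥N ≃* _).toMonoidHom :=
    Subgroup.mem_map_of_mem _ h5
  rw [MonoidHom.map_closure] at h6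
  simp only [MulEquiv.coe_toMonoidHom, MulEquiv.symm_apply_apply] at h6
  refine Subgroup.closure_mono ?_ h6
  rintro _ ⟨y, ⟨hy, hyy⟩, rfl⟩
  exact ⟨by change E (E.symm y) ∈ (S : Subgroup ↥N); rwa [E.apply_symm_apply],
    by rw [← map_mul, hyy, map_one]⟩

/-- Find a model by the discriminant. -/
theorem sq_mem_of_disc (h2 : (2 : F) ≠ 0) {ι : Type} [Fintype ι] [DecidableEq ι]
    {Q : QuadraticForm F (ι → F)} (hQ : (polarBilin Q).Nondegenerate) {k r : ℕ} (hk : 2 ≤ k)
    (hι : Fintype.card ι = 2 * k + r) {c : Fin r → F} (hc : ∀ j, c j ≠ 0)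
    (hd : IsSquare ((CfsgLib.QuadStd.gram Q (Pi.basisFun F ι)).det * ∏ j, 2 * c j))
    (hval : padicValNat 2 (Nat.card (oGroup Q)) =
      k * (torusExp (Nat.card F) + 1) + r + padicValNat 2 k.factorial)
    (P : Sylow 2 (Cfsg.Omega F ⇑Q)) :
    ∀ x : (P : Subgroup (Cfsg.Omega F ⇑Q)), x ^ 2 ∈ commutator (P : Subgroup (Cfsg.Omega F ⇑Q)) := by
  classical
  let κ := (Σ _ : Fin k, Fin 2) ⊕ Fin r
  let bm : Module.Basis κ F (MV F k r) :=
    (Pi.basis fun _ : Fin k => Pi.basisFun F (Fin 2)).prod (Pi.basisFun F (Fin r))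
  have hbl : ∀ i l, bm (.inl ⟨i, l⟩) = inPlane r i (Pi.single l 1) := fun i l =>
    Prod.ext ((Module.Basis.prod_apply_inl_fst _ _ _).trans (by simp [inPlane, Pi.basis_apply]))
      ((Module.Basis.prod_apply_inl_snd _ _ _).trans (by simp [inPlane]))
  have hbr : ∀ j, bm (.inr j) = inLine k j := fun j =>
    Prod.ext ((Module.Basis.prod_apply_inr_fst _ _ _).trans (by simp [inLine]))
      ((Module.Basis.prod_apply_inr_snd _ _ _).trans (by simp [inLine]))
  have hgram : CfsgLib.QuadStd.gram (mQ k c) bm =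
      Matrix.diagonal (Sum.elim (fun _ => 2) fun j => 2 * c j) := by
    ext x y
    simp only [CfsgLib.QuadStd.gram, Matrix.of_apply]
    rcases x with ⟨i, l⟩ | j <;> rcases y with ⟨i', l'⟩ | j'
    · rw [hbl, hbl, polar_inPlane]
      rcases eq_or_ne i i' with rfl | hi
      · fin_cases l <;> fin_cases l' <;> simp [inPlane, pl_polar, pl_apply, Matrix.diagonal]
      · simp [inPlane, hi, hi.symm, pl_polar, Matrix.diagonal]
    · rw [hbl, hbr, polar_inLine]
      simp [inPlane, Matrix.diagonal]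
    · rw [hbr, hbl, polar_inPlane]
      simp [inLine, Matrix.diagonal, pl_polar]
    · rw [hbr, hbr, polar_inLine]
      rcases eq_or_ne j j' with rfl | hj
      · simp [inLine, Matrix.diagonal]; ring
      · simp [inLine, hj, hj.symm, Matrix.diagonal]
  have hcardκ : Fintype.card κ = 2 * k + r := by
    simp [κ, mul_comm]
  let eι : ι ≃ Fin (2 * k + r) := Fintype.equivFinOfCardEq hι
  let eκ : κ ≃ Fin (2 * k + r) := Fintype.equivFinOfCardEq hcardκ
  have hre : ∀ {α : Type} [Fintype α] [DecidableEq α] {n : ℕ} (f : α ≃ Fin n) {W : Type _}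
      [AddCommGroup W] [Module F W] (Q : QuadraticForm F W) (b : Module.Basis α F W),
      (CfsgLib.QuadStd.gram Q (b.reindex f)).det = (CfsgLib.QuadStd.gram Q b).det := by
    intro α _ _ n f W _ _ Q b
    rw [← Matrix.det_reindex_self f (CfsgLib.QuadStd.gram Q b)]
    congr 1
    ext x y
    simp [CfsgLib.QuadStd.gram]
  obtain ⟨g, hg⟩ := CfsgLib.QuadStd.isometric_of_disc h2 hQ (mQ_nondeg (k := k) h2 hc)
    ((Pi.basisFun F ι).reindex eι) (bm.reindex eκ) (by
      rw [hre, hre, hgram, Matrix.det_diagonal, Fintype.prod_sum_type]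
      simp only [Sum.elim_inl, Sum.elim_inr, Finset.prod_const, Finset.card_univ, Fintype.card_sigma,
        Fintype.card_fin, Finset.sum_const, smul_eq_mul]
      rw [mul_comm k 2, pow_mul, mul_left_comm]
      exact ((IsSquare.sq (2 : F)).pow k).mul hd)
  haveI := finite_oGroup Q
  haveI : Finite ↥(Cfsg.Omega F ⇑Q) := Finite.of_equiv _ (omegaEquiv Q).toEquiv.symm
  let E := omegaEquiv Q
  let P' : Sylow 2 ↥(commutator (oGroup Q)) := P.comapOfInjective E.symm.toMonoidHom E.symm.injective
    (by rw [MonoidHom.range_eq_top.2 E.symm.surjective]; exact le_top)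
  have key := sq_mem_of_model h2 hk hc g hg hval P'
  intro x
  let f : (P : Subgroup (Cfsg.Omega F ⇑Q)) ≃* (P' : Subgroup ↥(commutator (oGroup Q))) :=
    { toFun := fun z => ⟨E z.1, show E.symm (E z.1) ∈ (P : Subgroup _) by rw [E.symm_apply_apply]; exact z.2⟩
      invFun := fun z => ⟨E.symm z.1, z.2⟩
      left_inv := fun z => Subtype.ext (E.symm_apply_apply _)
      right_inv := fun z => Subtype.ext (E.apply_symm_apply _)
      map_mul' := fun a b => Subtype.ext (map_mul E a.1 b.1) }
  rw [← CfsgLib.Quad.mem_commutator_equiv f, map_pow]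
  exact key (f x)

theorem two_ne_zero_of_odd {F : Type*} [Field F] [Fintype F] (hF : Odd (Fintype.card F)) : (2 : F) ≠ 0 :=
  fun e => by
    have := FiniteField.even_card_of_char_two (F := F) (ringChar.eq_iff.2 (CharTwo.of_one_ne_zero_of_two_eq_zero one_ne_zero e))
    rw [Nat.odd_iff] at hF; omega

end CfsgLib.OrthSylow
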