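import Cfsg.Agent.SylowAlt.Normalizer

/-!
# The dyadic tree group is generated by involutions
-/

set_option autoImplicit false

namespace CfsgLib.OrthSylow

open Equiv CfsgLib.SylowAlt

theorem tree_le_closure_involutions : ∀ n : ℕ,
    tree n ≤ Subgroup.closure {σ : Perm (Fin n) | σ ∈ tree n ∧ σ * σ = 1} := by
  intro n
  induction n using Nat.strong_induction_on with
  | _ n IH =>
  intro σ hσ
  rcases Nat.lt_or_ge n 2 with h2 | h2
  · refine Subgroup.subset_closure ⟨hσ, Equiv.ext fun a => Fin.ext ?_⟩
    have := ((σ * σ) a).isLt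
    have := a.isLt
    simp only [Perm.one_apply]
    omega
  have hlev : σ ∈ levelStab n 1 := mem_tree.1 hσ 1
  have hlast : ∀ a : Fin n, (σ a).val < 2 * (n / 2) ↔ a.val < 2 * (n / 2) := by
    intro a
    have := last_class hlev a
    simp only [pow_one] at this
    omega
  let g : Fin (n / 2) → Fin (n / 2) := fun b =>
    ⟨(σ ⟨2 * b.val, by omega⟩).val / 2, by
      have := (hlast ⟨2 * b.val, by omega⟩).mpr (by simp only; omega); omega⟩
  have hg : Function.Injective g := by
    intro b c e
    have h := (hlev ⟨2 * b.val, by omega⟩ ⟨2 * c.val, by omega⟩).mp (by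
      simpa using congrArg Fin.val e)
    apply Fin.ext
    simp only [pow_one] at h
    omega
  let τ : Perm (Fin (n / 2)) := Equiv.ofBijective g (Finite.injective_iff_bijective.mp hg)
  have hτ : τ ∈ tree (n / 2) := by
    rw [mem_tree]
    intro i b c
    have hv : ∀ b : Fin (n / 2), (τ b).val = (σ ⟨2 * b.val, by omega⟩).val / 2 := fun b => rfl
    rw [hv, hv, Nat.div_div_eq_div_mul, Nat.div_div_eq_div_mul, ← pow_succ',
      mem_tree.1 hσ (i + 1), pow_succ', ← Nat.div_div_eq_div_mul, ← Nat.div_div_eq_div_mul]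
    simp
  have hval : ∀ a : Fin n, (σ a).val / 2 = (lift n τ a).val / 2 := by
    intro a
    rw [lift_apply]
    by_cases ha : a.val < 2 * (n / 2)
    · rw [liftFun_val ha]
      have h1 : (σ a).val / 2 = (τ ⟨a.val / 2, half_lt a ha⟩).val := by
        have := (hlev a ⟨2 * (a.val / 2), by omega⟩).mpr (by simp only [pow_one]; omega)
        rw [pow_one] at this
        exact this
      omega
    · rw [liftFun_of_not ha]
      have := hlast a
      have := (σ a).isLt
      omega
  -- the rest preserves every pair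
  set π := (lift n τ)⁻¹ * σ with hπ
  have hpair : ∀ a : Fin n, (π a).val / 2 = a.val / 2 := by
    intro a
    have hl : lift n τ ∈ levelStab n 1 := mem_tree.1 (lift_mem_tree hτ) 1
    have := (hl (π a) a).1 (by
      rw [pow_one, show lift n τ (π a) = σ a by simp [hπ], hval a])
    simpa using this
  have hπ2 : π * π = 1 := by
    refine Equiv.ext fun a => Fin.ext ?_
    have e1 := hpair a
    have e2 := hpair (π a)
    rw [Perm.mul_apply, Perm.one_apply]
    by_cases hfix : π a = a
    · rw [hfix, hfix]
    · have h3 : (π a).val ≠ a.val := fun e => hfix (Fin.ext e)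
      have h4 : (π (π a)).val ≠ (π a).val := fun e => hfix (π.injective (Fin.ext e))
      omega
  have hπt : π ∈ tree n := (tree n).mul_mem ((tree n).inv_mem (lift_mem_tree hτ)) hσ
  have hlift : lift n τ ∈ Subgroup.closure {σ : Perm (Fin n) | σ ∈ tree n ∧ σ * σ = 1} := by
    have h1 : lift n τ ∈ (Subgroup.closure
        {σ : Perm (Fin (n / 2)) | σ ∈ tree (n / 2) ∧ σ * σ = 1}).map (lift n) :=
      Subgroup.mem_map_of_mem _ (IH (n / 2) (by omega) hτ)
    rw [MonoidHom.map_closure] at h1
    refine Subgroup.closure_mono ?_ h1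
    rintro _ ⟨s, ⟨hs, hs2⟩, rfl⟩
    exact ⟨lift_mem_tree hs, by rw [← map_mul, hs2, map_one]⟩
  rw [show σ = lift n τ * π by simp [hπ]]
  exact Subgroup.mul_mem _ hlift (Subgroup.subset_closure ⟨hπt, hπ2⟩)

/-- The order of the tree group. -/
theorem card_tree (n : ℕ) : Nat.card (tree n) = 2 ^ padicValNat 2 n.factorial := by
  haveI : Fact (Nat.Prime 2) := ⟨Nat.prime_two⟩
  obtain ⟨P, hP⟩ := exists_sylow_eq_tree n
  rw [← hP, P.card_eq_multiplicity, Nat.card_eq_fintype_card, Fintype.card_perm, Fintype.card_fin,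
    Nat.factorization_def _ Nat.prime_two]

end CfsgLib.OrthSylow
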