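import Cfsg.Agent.OrthSylow.Plane
import Cfsg.Agent.OrthSylow.Tree
import Cfsg.Agent.Quad.OmegaMem
import Mathlib.LinearAlgebra.QuadraticForm.Prod

/-!
# A Sylow 2-subgroup of the orthogonal group of a sum of planes `x² + y²` and lines
-/

set_option autoImplicit false
set_option linter.style.haveILetI false

namespace CfsgLib.OrthSylow

open QuadraticMap CfsgLib.Quad

variable {F : Type*} [Field F] {k r : ℕ}

/-- The model space. -/
abbrev MV (F : Type*) (k r : ℕ) := (Fin k → Fin 2 → F) × (Fin r → F)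

/-- The model form. -/
def mQ (k : ℕ) (c : Fin r → F) : QuadraticForm F (MV F k r) :=
  (QuadraticMap.pi fun _ : Fin k => pl F).prod (QuadraticMap.weightedSumSquares F c)

lemma mQ_apply (c : Fin r → F) (x : MV F k r) :
    mQ k c x = ∑ i, pl F (x.1 i) + ∑ j, c j * (x.2 j * x.2 j) := by
  simp [mQ, QuadraticMap.pi_apply, QuadraticMap.weightedSumSquares_apply]

lemma mQ_polar (c : Fin r → F) (x y : MV F k r) :
    polar (mQ k c) x y = ∑ i, polar (pl F) (x.1 i) (y.1 i) + ∑ j, c j * (2 * (x.2 j * y.2 j)) := by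
  simp only [polar, mQ_apply, Prod.fst_add, Prod.snd_add, Pi.add_apply, Finset.sum_sub_distrib]
  rw [show ∑ j, c j * ((x.2 j + y.2 j) * (x.2 j + y.2 j)) = ∑ j, c j * (x.2 j * x.2 j) +
      ∑ j, c j * (y.2 j * y.2 j) + ∑ j, c j * (2 * (x.2 j * y.2 j)) by
    rw [← Finset.sum_add_distrib, ← Finset.sum_add_distrib]
    exact Finset.sum_congr rfl fun j _ => by ring]
  ring

/-- A vector in the plane `i`. -/
def inPlane (r : ℕ) (i : Fin k) (v : Fin 2 → F) : MV F k r := (Pi.single i v, 0)

/-- The vector of the line `j`. -/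
def inLine (k : ℕ) (j : Fin r) : MV F k r := (0, Pi.single j 1)

lemma mQ_inPlane (c : Fin r → F) (i : Fin k) (v : Fin 2 → F) : mQ k c (inPlane r i v) = pl F v := by
  rw [mQ_apply, Finset.sum_eq_single i (fun l _ hl => by simp [inPlane, hl]) (by simp)]
  simp [inPlane]

lemma mQ_inLine (c : Fin r → F) (j : Fin r) : mQ k c (inLine k j) = c j := by
  rw [mQ_apply, Finset.sum_eq_single (a := j) (f := fun l => c l * _)
    (fun l _ hl => by simp [inLine, hl]) (by simp)]
  simp [inLine]

lemma polar_inPlane (c : Fin r → F) (x : MV F k r) (i : Fin k) (v : Fin 2 → F) :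
    polar (mQ k c) x (inPlane r i v) = polar (pl F) (x.1 i) v := by
  rw [mQ_polar, Finset.sum_eq_single i (fun l _ hl => by simp [inPlane, hl, pl_polar]) (by simp)]
  simp [inPlane]

lemma polar_inLine (c : Fin r → F) (x : MV F k r) (j : Fin r) :
    polar (mQ k c) x (inLine k j) = c j * (2 * x.2 j) := by
  rw [mQ_polar, Finset.sum_eq_single (a := j) (f := fun l => c l * _)
    (fun l _ hl => by simp [inLine, hl]) (by simp)]
  simp [inLine, pl_polar]

lemma mQ_nondeg (h2 : (2 : F) ≠ 0) {c : Fin r → F} (hc : ∀ j, c j ≠ 0) :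
    (polarBilin (mQ k c)).Nondegenerate := by
  have h : ∀ x : MV F k r, (∀ y, polar (mQ k c) x y = 0) → x = 0 := by
    intro x hx
    refine Prod.ext (funext fun i => (pl_nondeg h2).1 (x.1 i) fun v => ?_) (funext fun j => ?_)
    · rw [polarBilin_apply_apply, ← polar_inPlane c x i v]; exact hx _
    · have := hx (inLine k j)
      rw [polar_inLine] at this
      simpa [hc j, h2] using this
  exact ⟨fun x hx => h x hx, fun y hy => h y fun z => by rw [polar_comm]; exact hy z⟩

/-- Independent isometries of the planes. -/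
def planeHom (k : ℕ) (c : Fin r → F) : (Fin k → oGroup (pl F)) →* oGroup (mQ k c) where
  toFun f := ⟨(LinearEquiv.piCongrRight fun i => (f i).1).prodCongr (LinearEquiv.refl F _), fun x => by
    simp only [mQ_apply]
    congr 1
    exact Finset.sum_congr rfl fun i _ => (f i).2 _⟩
  map_one' := Subtype.ext (LinearEquiv.ext fun x => rfl)
  map_mul' f g := Subtype.ext (LinearEquiv.ext fun x => rfl)

lemma planeHom_apply (c : Fin r → F) (f : Fin k → oGroup (pl F)) (x : MV F k r) :
    (planeHom k c f).1 x = (fun i => (f i).1 (x.1 i), x.2) := rfl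

/-- Sign changes of the lines. -/
def signHom (k : ℕ) (c : Fin r → F) : (Fin r → ℤˣ) →* oGroup (mQ k c) where
  toFun e := ⟨(LinearEquiv.refl F _).prodCongr (LinearEquiv.piCongrRight fun j =>
      LinearEquiv.smulOfUnit (Units.map (Int.castRingHom F).toMonoidHom (e j))), fun x => by
    simp only [mQ_apply]
    congr 1
    refine Finset.sum_congr rfl fun j _ => ?_
    change c j * ((((e j : ℤ) : F) * x.2 j) * (((e j : ℤ) : F) * x.2 j)) = _
    rcases Int.units_eq_one_or (e j) with h | h <;> rw [h] <;> simp⟩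
  map_one' := Subtype.ext (LinearEquiv.ext fun x => Prod.ext rfl (funext fun j => by
    change (((1 : ℤˣ) : ℤ) : F) * x.2 j = x.2 j
    simp))
  map_mul' e e' := Subtype.ext (LinearEquiv.ext fun x => Prod.ext rfl (funext fun j => by
    change ((((e j * e' j : ℤˣ)) : ℤ) : F) * x.2 j = ((e j : ℤ) : F) * (((e' j : ℤ) : F) * x.2 j)
    push_cast
    ring))

lemma signHom_apply (c : Fin r → F) (e : Fin r → ℤˣ) (x : MV F k r) :
    (signHom k c e).1 x = (x.1, fun j => ((e j : ℤ) : F) * x.2 j) := rfl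

/-- Permutations of the planes. -/
def permHom (k : ℕ) (c : Fin r → F) : Equiv.Perm (Fin k) →* oGroup (mQ k c) where
  toFun π := ⟨(LinearEquiv.funCongrLeft F (Fin 2 → F) π.symm).prodCongr (LinearEquiv.refl F _), fun x => by
    simp only [mQ_apply]
    congr 1
    exact Equiv.sum_comp π.symm fun i => pl F (x.1 i)⟩
  map_one' := Subtype.ext (LinearEquiv.ext fun x => rfl)
  map_mul' f g := Subtype.ext (LinearEquiv.ext fun x => rfl)

lemma permHom_apply (c : Fin r → F) (π : Equiv.Perm (Fin k)) (x : MV F k r) :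
    (permHom k c π).1 x = (fun i => x.1 (π.symm i), x.2) := rfl

lemma refl_inPlane (c : Fin r → F) (i : Fin k) (v : Fin 2 → F) :
    refl (mQ k c) (inPlane r i v) = planeHom k c (Pi.mulSingle i (refl (pl F) v)) := by
  refine Subtype.ext (LinearEquiv.ext fun x => ?_)
  rw [refl_apply, planeHom_apply, mQ_inPlane, polar_inPlane]
  refine Prod.ext (funext fun l => ?_) (by simp [inPlane])
  rcases eq_or_ne l i with rfl | hl
  · simp [inPlane, Pi.mulSingle_eq_same, refl_apply]
  · simp [inPlane, hl]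

lemma refl_inLine (h2 : (2 : F) ≠ 0) {c : Fin r → F} (hc : ∀ j, c j ≠ 0) (j : Fin r) :
    refl (mQ k c) (inLine k j) = signHom k c (Pi.mulSingle j (-1)) := by
  refine Subtype.ext (LinearEquiv.ext fun x => ?_)
  rw [refl_apply, signHom_apply, mQ_inLine, polar_inLine]
  refine Prod.ext (by simp [inLine]) (funext fun l => ?_)
  rcases eq_or_ne l j with rfl | hl
  · have := hc l
    simp [inLine]
    field_simp
    ring
  · simp [inLine, hl]

variable (P : PlaneData F) (c : Fin r → F)

/-- The reflection vectors of the Sylow subgroup of the model. -/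
def mVecs (k : ℕ) : Set (MV F k r) :=
  {x | (∃ i, ∃ v ∈ P.vecs, x = inPlane r i v) ∨ ∃ j, x = inLine k j}

/-- The base of the wreath product. -/
def baseHom (k : ℕ) : ((Fin k → P.D) × (Fin r → ℤˣ)) →* oGroup (mQ k c) :=
  MonoidHom.noncommCoprod ((planeHom k c).comp (MonoidHom.piMap fun _ => P.D.subtype)) (signHom k c)
    fun _ _ => Subtype.ext (LinearEquiv.ext fun _ => rfl)

lemma baseHom_apply (f : (Fin k → P.D) × (Fin r → ℤˣ)) (x : MV F k r) :
    (baseHom P c k f).1 x = (fun i => (f.1 i).1.1 (x.1 i), fun j => ((f.2 j : ℤ) : F) * x.2 j) := rfl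

/-- The Sylow subgroup of the model. -/
def sylowGroup (k : ℕ) : Subgroup (oGroup (mQ k c)) :=
  Subgroup.closure (refl (mQ k c) '' mVecs P k) ⊔ (CfsgLib.SylowAlt.tree k).map (permHom k c)

variable (h2 : (2 : F) ≠ 0) (hc : ∀ j, c j ≠ 0)

include hc in
lemma mVecs_aniso {x : MV F k r} (hx : x ∈ mVecs P k) : mQ k c x ≠ 0 := by
  rcases hx with ⟨i, v, hv, rfl⟩ | ⟨j, rfl⟩
  · rw [mQ_inPlane]; exact P.aniso v hv
  · rw [mQ_inLine]; exact hc j

include h2 hc in
lemma base_eq : Subgroup.closure (refl (mQ k c) '' mVecs P k) = (baseHom P c k).range := by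
  refine le_antisymm ((Subgroup.closure_le _).2 ?_) ?_
  · rintro _ ⟨x, ⟨i, v, hv, rfl⟩ | ⟨j, rfl⟩, rfl⟩
    · refine ⟨(Pi.mulSingle i ⟨_, P.refl_mem v hv⟩, 1), ?_⟩
      rw [refl_inPlane]
      refine Subtype.ext (LinearEquiv.ext fun x => ?_)
      rw [baseHom_apply, planeHom_apply]
      refine Prod.ext (funext fun l => ?_) (by simp)
      rcases eq_or_ne l i with rfl | hl
      · simp
      · simp [hl]
    · refine ⟨(1, Pi.mulSingle j (-1)), ?_⟩
      rw [refl_inLine h2 hc]
      exact Subtype.ext (LinearEquiv.ext fun x => rfl)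
  · rintro _ ⟨⟨f, e⟩, rfl⟩
    have hf : planeHom k c (fun i => (f i).1) ∈ Subgroup.closure (refl (mQ k c) '' mVecs P k) := by
      refine Subgroup.pi_mem_of_mulSingle_mem (H :=
        (Subgroup.closure (refl (mQ k c) '' mVecs P k)).comap (planeHom k c)) _ fun i => ?_
      have hD : P.D ≤ (Subgroup.closure (refl (mQ k c) '' mVecs P k)).comap
          ((planeHom k c).comp (MonoidHom.mulSingle (fun _ => oGroup (pl F)) i)) := by
        refine P.gen.trans ((Subgroup.closure_le _).2 ?_)
        rintro _ ⟨v, hv, rfl⟩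
        change planeHom k c (Pi.mulSingle i (refl (pl F) v)) ∈ Subgroup.closure (refl (mQ k c) '' mVecs P k)
        rw [← refl_inPlane]
        exact Subgroup.subset_closure ⟨_, Or.inl ⟨i, v, hv, rfl⟩, rfl⟩
      exact hD (f i).2
    have he : signHom k c e ∈ Subgroup.closure (refl (mQ k c) '' mVecs P k) := by
      refine Subgroup.pi_mem_of_mulSingle_mem (H :=
        (Subgroup.closure (refl (mQ k c) '' mVecs P k)).comap (signHom k c)) _ fun j => ?_
      rcases Int.units_eq_one_or (e j) with h | h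
      · simp [h, one_mem]
      · rw [Subgroup.mem_comap, h, ← refl_inLine h2 hc]
        exact Subgroup.subset_closure ⟨_, Or.inr ⟨j, rfl⟩, rfl⟩
    exact Subgroup.mul_mem _ hf he

include h2 hc in
lemma smul_mVecs {a : oGroup (mQ k c)} (ha : a ∈ Subgroup.closure (refl (mQ k c) '' mVecs P k))
    {x : MV F k r} (hx : x ∈ mVecs P k) :
    a.1 x ∈ mVecs P k ∨ -(a.1 x) ∈ mVecs P k := by
  rw [base_eq P c h2 hc] at ha
  obtain ⟨⟨f, e⟩, rfl⟩ := ha
  rcases hx with ⟨i, v, hv, rfl⟩ | ⟨j, rfl⟩
  · refine Or.inl (Or.inl ⟨i, (f i).1.1 v, P.smul_mem _ (f i).2 v hv, ?_⟩)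
    rw [baseHom_apply]
    refine Prod.ext (funext fun l => ?_) (by simp [inPlane]; rfl)
    rcases eq_or_ne l i with rfl | hl
    · simp [inPlane]
    · simp [inPlane, hl]
  · rcases Int.units_eq_one_or (e j) with h | h
    · refine Or.inl (Or.inr ⟨j, ?_⟩)
      rw [baseHom_apply]
      refine Prod.ext (funext fun l => by simp [inLine]) (funext fun l => ?_)
      rcases eq_or_ne l j with rfl | hl
      · simp [inLine, h]
      · simp [inLine, hl]
    · refine Or.inr (Or.inr ⟨j, ?_⟩)
      rw [baseHom_apply]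
      refine Prod.ext (funext fun l => by simp [inLine]) (funext fun l => ?_)
      rcases eq_or_ne l j with rfl | hl
      · simp [inLine, h]
      · simp [inLine, hl]

include h2 hc in
lemma refl_conj_mVecs {a : oGroup (mQ k c)} (ha : a ∈ Subgroup.closure (refl (mQ k c) '' mVecs P k))
    {x : MV F k r} (hx : x ∈ mVecs P k) :
    ∃ y ∈ mVecs P k, mQ k c y = mQ k c x ∧ a * refl (mQ k c) x * a⁻¹ = refl (mQ k c) y := by
  rw [refl_conj]
  rcases smul_mVecs P c h2 hc ha hx with h | h
  · exact ⟨_, h, a.2 x, rfl⟩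
  · refine ⟨_, h, by rw [QuadraticMap.map_neg]; exact a.2 x, ?_⟩
    rw [← neg_one_smul F (a.1 x), refl_smul (neg_ne_zero.2 one_ne_zero)]

include h2 hc in
lemma perm_normalizes (π : Equiv.Perm (Fin k)) :
    (Subgroup.closure (refl (mQ k c) '' mVecs P k)).map (MulAut.conj (permHom k c π)).toMonoidHom ≤
      Subgroup.closure (refl (mQ k c) '' mVecs P k) := by
  rw [MonoidHom.map_closure]
  refine (Subgroup.closure_le _).2 ?_
  rintro _ ⟨_, ⟨x, hx, rfl⟩, rfl⟩
  change permHom k c π * refl (mQ k c) x * (permHom k c π)⁻¹ ∈ _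
  rw [refl_conj]
  refine Subgroup.subset_closure ⟨_, ?_, rfl⟩
  rcases hx with ⟨i, v, hv, rfl⟩ | ⟨j, rfl⟩
  · refine Or.inl ⟨π i, v, hv, ?_⟩
    rw [permHom_apply]
    refine Prod.ext (funext fun l => ?_) rfl
    simp [inPlane, Pi.single_apply, Equiv.symm_apply_eq]
  · exact Or.inr ⟨j, Prod.ext (funext fun l => rfl) rfl⟩

include h2 hc in
lemma mem_sylowGroup {g : oGroup (mQ k c)} :
    g ∈ sylowGroup P c k ↔ ∃ a ∈ Subgroup.closure (refl (mQ k c) '' mVecs P k),
      ∃ π ∈ CfsgLib.SylowAlt.tree k, g = a * permHom k c π := by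
  constructor
  · intro hg
    have hle : (CfsgLib.SylowAlt.tree k).map (permHom k c) ≤
        Subgroup.normalizer ((Subgroup.closure (refl (mQ k c) '' mVecs P k) : Subgroup _) :
          Set (oGroup (mQ k c))) := by
      rintro _ ⟨π, hπ, rfl⟩
      rw [Subgroup.mem_normalizer_iff]
      intro z
      refine ⟨fun hz => perm_normalizes P c h2 hc π ⟨z, hz, rfl⟩, fun hz => ?_⟩
      have := perm_normalizes P c h2 hc π⁻¹ ⟨_, hz, rfl⟩
      simpa [mul_assoc] using this
    rw [sylowGroup, ← SetLike.mem_coe, Subgroup.coe_mul_of_right_le_normalizer_left _ _ hle] at hg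
    obtain ⟨a, ha, s, hs, rfl⟩ := Set.mem_mul.1 hg
    obtain ⟨π, hπ, rfl⟩ := hs
    exact ⟨a, ha, π, hπ, rfl⟩
  · rintro ⟨a, ha, π, hπ, rfl⟩
    exact Subgroup.mul_mem _ (Subgroup.mem_sup_left ha)
      (Subgroup.mem_sup_right (Subgroup.mem_map_of_mem _ hπ))

include h2 hc in
theorem card_sylowGroup : Nat.card (sylowGroup P c k) =
    Nat.card P.D ^ k * 2 ^ r * 2 ^ padicValNat 2 k.factorial := by
  let Φ : ((Fin k → P.D) × (Fin r → ℤˣ)) × CfsgLib.SylowAlt.tree k → sylowGroup P c k := fun z =>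
    ⟨baseHom P c k z.1 * permHom k c z.2.1, (mem_sylowGroup P c h2 hc).2
      ⟨_, by rw [base_eq P c h2 hc]; exact ⟨z.1, rfl⟩, _, z.2.2, rfl⟩⟩
  have happ : ∀ z x, (Φ z).1.1 x = (fun i => (z.1.1 i).1.1 (x.1 (z.2.1.symm i)),
      fun j => ((z.1.2 j : ℤ) : F) * x.2 j) := fun z x => rfl
  have hΦ : Function.Bijective Φ := by
    refine ⟨fun z z' e => ?_, fun g => ?_⟩
    · have e' : ∀ x, (Φ z).1.1 x = (Φ z').1.1 x := fun x => by rw [e]
      have hπ : z.2 = z'.2 := by
        refine Subtype.ext (Equiv.ext fun i => ?_)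
        by_contra hne
        have h := congrFun (congrArg Prod.fst (e' (inPlane r i ![1, 0]))) (z.2.1 i)
        have hne' : z'.2.1.symm (z.2.1 i) ≠ i := fun h' => hne (by
          rw [Equiv.symm_apply_eq] at h'; exact h')
        simp only [happ, inPlane, Equiv.symm_apply_apply, Pi.single_eq_same,
          Pi.single_eq_of_ne hne', map_zero] at h
        exact one_ne_zero (congrFun ((z.1.1 (z.2.1 i)).1.1.map_eq_zero_iff.1 h) 0)
      refine Prod.ext (Prod.ext (funext fun i => Subtype.ext (Subtype.ext (LinearEquiv.ext fun v => ?_)))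
        (funext fun j => ?_)) hπ
      · have h := congrFun (congrArg Prod.fst (e' (inPlane r (z.2.1.symm i) v))) i
        simp only [happ, inPlane, ← hπ, Pi.single_eq_same] at h
        exact h
      · have h := congrFun (congrArg Prod.snd (e' (inLine k j))) j
        simp only [happ, inLine, Pi.single_eq_same, mul_one] at h
        rcases Int.units_eq_one_or (z.1.2 j) with a | a <;>
          rcases Int.units_eq_one_or (z'.1.2 j) with b | b <;> rw [a, b] at h ⊢ <;> simp at h
        · exact absurd (by linear_combination h) h2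
        · exact absurd (by linear_combination -h) h2
    · obtain ⟨a, ha, π, hπ, e⟩ := (mem_sylowGroup P c h2 hc).1 g.2
      rw [base_eq P c h2 hc] at ha
      obtain ⟨f, rfl⟩ := ha
      exact ⟨(f, ⟨π, hπ⟩), Subtype.ext e.symm⟩
  rw [← Nat.card_congr (Equiv.ofBijective Φ hΦ), Nat.card_prod, Nat.card_prod, Nat.card_pi, Nat.card_pi,
    card_tree]
  simp [Finset.prod_const, Nat.card_eq_fintype_card]

variable [Finite F]

include h2 in
lemma hgen_field : ∃ t : F, t ≠ 0 ∧ t ≠ 1 :=
  ⟨-1, neg_ne_zero.2 one_ne_zero, fun e => h2 (by linear_combination -e)⟩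

include h2 hc in
lemma perm_mem_commutator (π : Equiv.Perm (Fin k)) : permHom k c π ∈ commutator (oGroup (mQ k c)) := by
  induction π using Equiv.Perm.swap_induction_on with
  | one => rw [map_one]; exact Subgroup.one_mem _
  | swap_mul f i j hij ih =>
    rw [map_mul]
    refine Subgroup.mul_mem _ ?_ ih
    let w : Fin 2 → MV F k r := fun l => inPlane r i (Pi.single l 1) - inPlane r j (Pi.single l 1)
    have hQ : ∀ l, mQ k c (w l) = 2 := by
      intro l
      rw [mQ_apply, Finset.sum_eq_add_of_mem i j (Finset.mem_univ _) (Finset.mem_univ _) hij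
        (fun m _ hm => by simp [w, inPlane, hm.1, hm.2])]
      fin_cases l <;> simp [w, inPlane, hij, hij.symm, pl_apply] <;> norm_num
    have hvs : ∀ v ∈ [w 0, w 1], mQ k c v ≠ 0 := by
      intro v hv
      simp only [List.mem_cons, List.not_mem_nil, or_false] at hv
      rcases hv with rfl | rfl <;> rw [hQ] <;> exact h2
    have he : permHom k c (Equiv.swap i j) = reflProd (mQ k c) [w 0, w 1] := by
      rw [reflProd_cons, reflProd_cons, reflProd_nil, mul_one]
      refine Subtype.ext (LinearEquiv.ext fun x => ?_)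
      rw [Subgroup.coe_mul, LinearEquiv.mul_apply, permHom_apply, refl_apply, refl_apply, hQ, hQ]
      have hp : ∀ (y : MV F k r) l, polar (mQ k c) y (w l) = 2 * (y.1 i l - y.1 j l) := by
        intro y l
        simp only [w, sub_eq_add_neg, polar_add_right, polar_neg_right, polar_inPlane]
        fin_cases l <;> simp [pl_polar] <;> ring
      rw [hp, hp]
      refine Prod.ext (funext fun m => funext fun l => ?_) (by simp [w, inPlane])
      rcases eq_or_ne m i with rfl | hmi
      · fin_cases l <;> simp [w, inPlane, hij, hij.symm] <;> field_simp <;> ring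
      rcases eq_or_ne m j with rfl | hmj
      · fin_cases l <;> simp [w, inPlane, hij, hij.symm] <;> field_simp <;> ring
      fin_cases l <;> simp [w, inPlane, hmi, hmj, Equiv.swap_apply_of_ne_of_ne]
    rw [he, reflProd_mem_commutator_iff (mQ_nondeg h2 hc) (Or.inl (hgen_field h2)) hvs]
    exact ⟨⟨1, rfl⟩, ⟨2, by simp [hQ]⟩⟩

/-- The involutions of the Sylow subgroup of the commutator group. -/
def invols (k : ℕ) : Set (oGroup (mQ k c)) :=
  {g | g ∈ sylowGroup P c k ⊓ commutator (oGroup (mQ k c)) ∧ g * g = 1}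

include h2 hc in
lemma commute_refl {x y : MV F k r} (h : polar (mQ k c) x y = 0) :
    refl (mQ k c) x * refl (mQ k c) y = refl (mQ k c) y * refl (mQ k c) x := by
  refine mul_inv_eq_iff_eq_mul.1 ?_
  rw [refl_conj, refl_fix (by rwa [polar_comm])]

include h2 hc in
lemma pair_mem (hk : 2 ≤ k) {x y : MV F k r} (hx : x ∈ mVecs P k) (hy : y ∈ mVecs P k)
    (hs : IsSquare (mQ k c x) ↔ IsSquare (mQ k c y)) :
    refl (mQ k c) x * refl (mQ k c) y ∈ Subgroup.closure (invols P c k) := by
  have hA : ∀ {z}, z ∈ mVecs P k → refl (mQ k c) z ∈ sylowGroup P c k := fun hz =>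
    Subgroup.mem_sup_left (Subgroup.subset_closure ⟨_, hz, rfl⟩)
  have horth : ∀ {x y : MV F k r}, x ∈ mVecs P k → y ∈ mVecs P k →
      (IsSquare (mQ k c x) ↔ IsSquare (mQ k c y)) → polar (mQ k c) x y = 0 →
      refl (mQ k c) x * refl (mQ k c) y ∈ Subgroup.closure (invols P c k) := by
    intro x y hx hy hs hp
    refine Subgroup.subset_closure ⟨⟨(sylowGroup P c k).mul_mem (hA hx) (hA hy), ?_⟩, ?_⟩
    · have hvs : ∀ v ∈ [x, y], mQ k c v ≠ 0 := by
        intro v hv
        simp only [List.mem_cons, List.not_mem_nil, or_false] at hv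
        rcases hv with rfl | rfl
        · exact mVecs_aniso P c hc hx
        · exact mVecs_aniso P c hc hy
      have := (reflProd_mem_commutator_iff (mQ_nondeg h2 hc) (Or.inl (hgen_field h2)) hvs).2
        ⟨⟨1, rfl⟩, by simpa using (isSquare_mul_iff h2 (mVecs_aniso P c hc hx) (mVecs_aniso P c hc hy)).2 hs⟩
      rwa [reflProd_cons, reflProd_cons, reflProd_nil, mul_one] at this
    · calc refl (mQ k c) x * refl (mQ k c) y * (refl (mQ k c) x * refl (mQ k c) y)
          = refl (mQ k c) x * (refl (mQ k c) y * refl (mQ k c) x) * refl (mQ k c) y := by group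
        _ = 1 := by
          rw [← commute_refl c h2 hc hp, ← mul_assoc, refl_mul_self, one_mul, refl_mul_self]
  rcases hx with ⟨i, v, hv, rfl⟩ | ⟨j, rfl⟩
  · rcases hy with ⟨i', v', hv', rfl⟩ | ⟨j', rfl⟩
    · rcases ne_or_eq i i' with hi | rfl
      · exact horth (Or.inl ⟨i, v, hv, rfl⟩) (Or.inl ⟨i', v', hv', rfl⟩) hs
          (by rw [polar_inPlane]; simp [inPlane, hi.symm, pl_polar])
      · haveI : Nontrivial (Fin k) := Fin.nontrivial_iff_two_le.2 hk
        obtain ⟨l, hl⟩ := exists_ne i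
        obtain ⟨w, hw, hws⟩ : ∃ w ∈ P.vecs, (IsSquare (mQ k c (inPlane r i v)) ↔ IsSquare (pl F w)) := by
          by_cases h : IsSquare (mQ k c (inPlane r i v))
          · obtain ⟨w, hw, hw'⟩ := P.square; exact ⟨w, hw, iff_of_true h hw'⟩
          · obtain ⟨w, hw, hw'⟩ := P.nonsquare; exact ⟨w, hw, iff_of_false h hw'⟩
        have ht : inPlane r l w ∈ mVecs P k := Or.inl ⟨l, w, hw, rfl⟩
        have h1 := horth (Or.inl ⟨i, v, hv, rfl⟩) ht (by rwa [mQ_inPlane c l w])
          (by rw [polar_inPlane]; simp [inPlane, hl, pl_polar])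
        have h2' := horth ht (Or.inl ⟨i, v', hv', rfl⟩) (by rw [mQ_inPlane c l w]; exact hws.symm.trans hs)
          (by rw [polar_inPlane]; simp [inPlane, hl.symm, pl_polar])
        have := Subgroup.mul_mem _ h1 h2'
        rwa [← mul_assoc, mul_assoc (refl (mQ k c) (inPlane r i v)), refl_mul_self, mul_one] at this
    · exact horth (Or.inl ⟨i, v, hv, rfl⟩) (Or.inr ⟨j', rfl⟩) hs
        (by rw [polar_inLine]; simp [inPlane])
  · rcases hy with ⟨i', v', hv', rfl⟩ | ⟨j', rfl⟩
    · exact horth (Or.inr ⟨j, rfl⟩) (Or.inl ⟨i', v', hv', rfl⟩) hs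
        (by rw [polar_inPlane]; simp [inLine, pl_polar])
    · rcases eq_or_ne j j' with rfl | hj
      · rw [refl_mul_self]; exact Subgroup.one_mem _
      · exact horth (Or.inr ⟨j, rfl⟩) (Or.inr ⟨j', rfl⟩) hs
          (by rw [polar_inLine]; simp [inLine, hj.symm])

include h2 hc in
lemma word_mem (hk : 2 ≤ k) : ∀ (n : ℕ) (vs : List (MV F k r)), vs.length = n →
    (∀ v ∈ vs, v ∈ mVecs P k) → Even vs.length → IsSquare ((vs.map fun v => mQ k c v).prod) →
    reflProd (mQ k c) vs ∈ Subgroup.closure (invols P c k) := by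
  intro n
  induction n using Nat.strong_induction_on with
  | _ n ih =>
  intro vs hn hvs hev hsq
  rcases vs with _ | ⟨a, _ | ⟨b, rest⟩⟩
  · exact Subgroup.one_mem _
  · simp at hev
  simp only [List.forall_mem_cons] at hvs
  obtain ⟨ha, hb, hrest⟩ := hvs
  have hq : ∀ {z}, z ∈ mVecs P k → mQ k c z ≠ 0 := fun hz => mVecs_aniso P c hc hz
  have hmul : ∀ {x y : F}, x ≠ 0 → y ≠ 0 → (IsSquare (x * y) ↔ (IsSquare x ↔ IsSquare y)) :=
    fun hx hy => isSquare_mul_iff h2 hx hy
  simp only [List.length_cons] at hn hev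
  have hev' : Even rest.length := by
    rw [Nat.even_iff] at hev ⊢
    omega
  simp only [List.map_cons, List.prod_cons] at hsq
  have hrest0 : (rest.map fun v => mQ k c v).prod ≠ 0 := prod_ne_zero_of_forall fun v hv => hq (hrest v hv)
  rw [← mul_assoc, hmul (mul_ne_zero (hq ha) (hq hb)) hrest0, hmul (hq ha) (hq hb)] at hsq
  by_cases hab : IsSquare (mQ k c a) ↔ IsSquare (mQ k c b)
  · rw [reflProd_cons, reflProd_cons, ← mul_assoc]
    exact Subgroup.mul_mem _ (pair_mem P c h2 hc hk ha hb hab)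
      (ih rest.length (by omega) rest rfl hrest hev' (hsq.1 hab))
  rcases rest with _ | ⟨d, t⟩
  · exact absurd (hsq.2 (by simp)) hab
  simp only [List.forall_mem_cons] at hrest
  obtain ⟨hd, ht⟩ := hrest
  have hA : ∀ {z}, z ∈ mVecs P k → refl (mQ k c) z ∈ Subgroup.closure (refl (mQ k c) '' mVecs P k) :=
    fun hz => Subgroup.subset_closure ⟨_, hz, rfl⟩
  simp only [List.map_cons, List.prod_cons, List.length_cons] at hsq hn hev'
  have ht0 : (t.map fun v => mQ k c v).prod ≠ 0 := prod_ne_zero_of_forall fun v hv => hq (ht v hv)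
  rw [hmul (hq hd) ht0] at hsq
  have hlen : Even (t.length + 1) := by simpa [Nat.even_add_one] using hev'
  rw [reflProd_cons, reflProd_cons, reflProd_cons]
  by_cases hbd : IsSquare (mQ k c b) ↔ IsSquare (mQ k c d)
  · obtain ⟨b', hb', eb, cb⟩ := refl_conj_mVecs P c h2 hc (hA ha) hb
    obtain ⟨d', hd', ed, cd⟩ := refl_conj_mVecs P c h2 hc (hA ha) hd
    have h1 := pair_mem P c h2 hc hk hb' hd' (by rwa [eb, ed])
    have h3 := ih (t.length + 1) (by omega) (a :: t) (by simp) (List.forall_mem_cons.2 ⟨ha, ht⟩)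
      (by simpa using hlen) (by
        rw [List.map_cons, List.prod_cons, hmul (hq ha) ht0]
        tauto)
    have := Subgroup.mul_mem _ h1 h3
    rw [← cb, ← cd, reflProd_cons] at this
    convert this using 1
    group
  · obtain ⟨d', hd', ed, cd⟩ := refl_conj_mVecs P c h2 hc (hA hb) hd
    have h1 := pair_mem P c h2 hc hk ha hd' (by rw [ed]; tauto)
    have h3 := ih (t.length + 1) (by omega) (b :: t) (by simp) (List.forall_mem_cons.2 ⟨hb, ht⟩)
      (by simpa using hlen) (by
        rw [List.map_cons, List.prod_cons, hmul (hq hb) ht0]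
        tauto)
    have := Subgroup.mul_mem _ h1 h3
    rw [← cd, reflProd_cons] at this
    convert this using 1
    group

include h2 hc in
/-- The Sylow subgroup of `Ω` is generated by involutions. -/
theorem le_closure_invols (hk : 2 ≤ k) :
    sylowGroup P c k ⊓ commutator (oGroup (mQ k c)) ≤ Subgroup.closure (invols P c k) := by
  rintro g ⟨hg, hgΩ⟩
  obtain ⟨a, ha, π, hπ, rfl⟩ := (mem_sylowGroup P c h2 hc).1 hg
  refine Subgroup.mul_mem _ ?_ ?_
  · have haΩ : a ∈ commutator (oGroup (mQ k c)) := by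
      have := Subgroup.mul_mem _ hgΩ (Subgroup.inv_mem _ (perm_mem_commutator c h2 hc π))
      rwa [mul_inv_cancel_right] at this
    obtain ⟨vs, hvs, rfl⟩ : ∃ vs : List (MV F k r), (∀ v ∈ vs, v ∈ mVecs P k) ∧ a = reflProd (mQ k c) vs := by
      refine Subgroup.closure_induction_left ⟨[], by simp, rfl⟩ ?_ ?_ ha
      · rintro _ ⟨d, hd, rfl⟩ y _ ⟨vs, hvs, rfl⟩
        exact ⟨d :: vs, List.forall_mem_cons.2 ⟨hd, hvs⟩, (reflProd_cons _ _).symm⟩
      · rintro _ ⟨d, hd, rfl⟩ y _ ⟨vs, hvs, rfl⟩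
        exact ⟨d :: vs, List.forall_mem_cons.2 ⟨hd, hvs⟩, by rw [refl_inv, reflProd_cons]⟩
    obtain ⟨he, hs⟩ := (reflProd_mem_commutator_iff (mQ_nondeg h2 hc) (Or.inl (hgen_field h2))
      fun v hv => mVecs_aniso P c hc (hvs v hv)).1 haΩ
    exact word_mem P c h2 hc hk _ vs rfl hvs he hs
  · have hle : CfsgLib.SylowAlt.tree k ≤ (Subgroup.closure (invols P c k)).comap (permHom k c) := by
      refine (tree_le_closure_involutions k).trans ((Subgroup.closure_le _).2 fun σ hσ => ?_)
      refine Subgroup.subset_closure ⟨⟨Subgroup.mem_sup_right (Subgroup.mem_map_of_mem _ hσ.1),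
        perm_mem_commutator c h2 hc σ⟩, ?_⟩
      rw [← map_mul, hσ.2, map_one]
    exact hle hπ

end CfsgLib.OrthSylow
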