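import Cfsg.Agent.Quad.IndexTwo
import Cfsg.Agent.Quad.Orders
import Cfsg.Agent.OrthSylow.Arith

/-!
# The Sylow 2-subgroup of the orthogonal group of the plane `x² + y²`
-/

set_option autoImplicit false
set_option linter.style.haveILetI false

namespace CfsgLib.OrthSylow

open QuadraticMap CfsgLib.Quad

variable {F : Type*} [Field F]

/-- The form `x² + y²`. -/
def pl (F : Type*) [Field F] : QuadraticForm F (Fin 2 → F) :=
  QuadraticMap.weightedSumSquares F (fun _ => (1 : F))

lemma pl_apply (v : Fin 2 → F) : pl F v = v 0 * v 0 + v 1 * v 1 := by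
  simp [pl, QuadraticMap.weightedSumSquares_apply, Fin.sum_univ_two]

lemma pl_polar (u v : Fin 2 → F) : polar (pl F) u v = 2 * (u 0 * v 0 + u 1 * v 1) := by
  simp only [polar, pl_apply, Pi.add_apply]
  ring

lemma pl_nondeg (h2 : (2 : F) ≠ 0) : (polarBilin (pl F)).Nondegenerate := by
  have h : ∀ x : Fin 2 → F, (∀ y, polar (pl F) x y = 0) → x = 0 := by
    intro x hx
    have h0 := hx ![1, 0]
    have h1 := hx ![0, 1]
    rw [pl_polar] at h0 h1
    simp [h2] at h0 h1
    ext i; fin_cases i <;> assumption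
  exact ⟨fun x hx => h x hx, fun y hy => h y fun z => by rw [polar_comm]; exact hy z⟩

variable [Finite F]

lemma card_oGroup_pl (h2 : (2 : F) ≠ 0) {q : ℕ} (hq : Nat.card F = q) :
    Nat.card (oGroup (pl F)) = 2 * (if q % 4 = 1 then q - 1 else q + 1) := by
  haveI := Fintype.ofFinite F
  have hq2 : 2 ≤ q := hq ▸ Finite.one_lt_card
  have hodd : q % 2 = 1 := by
    rw [← hq, Nat.card_eq_fintype_card]
    exact FiniteField.odd_card_of_char_ne_two fun e => h2 (by
      haveI : CharP F 2 := ringChar.of_eq e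
      exact CharP.cast_eq_zero F 2)
  split_ifs with h4
  · obtain ⟨i, hi⟩ : IsSquare (-1 : F) :=
      FiniteField.isSquare_neg_one_iff.2 (by rw [← Nat.card_eq_fintype_card, hq]; omega)
    have hi0 : i ≠ 0 := fun e => by rw [e, mul_zero] at hi; exact one_ne_zero (neg_eq_zero.1 hi)
    let e : (Fin 2 → F) ≃ₗ[F] (Fin 1 ⊕ Fin 1 → F) :=
      LinearEquiv.ofLinear
        { toFun := fun v => Sum.elim (fun _ => v 0 + i * v 1) (fun _ => v 0 - i * v 1)
          map_add' := fun u v => by funext x; rcases x with x | x <;> simp <;> ring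
          map_smul' := fun c v => by funext x; rcases x with x | x <;> simp <;> ring }
        { toFun := fun w => ![(w (.inl 0) + w (.inr 0)) / 2, (w (.inl 0) - w (.inr 0)) / (2 * i)]
          map_add' := fun u v => by funext x; fin_cases x <;> simp <;> ring
          map_smul' := fun c v => by funext x; fin_cases x <;> simp <;> ring }
        (LinearMap.ext fun w => funext fun x => by
          rcases x with x | x <;> fin_cases x <;> simp <;> field_simp <;> ring)
        (LinearMap.ext fun v => funext fun x => by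
          fin_cases x <;> simp <;> field_simp <;> ring)
    have he : ∀ v, plusQ 1 (e v) = pl F v := fun v => by
      rw [plusQ_coe, pl_apply]
      change ∑ j : Fin 1, (v 0 + i * v 1) * (v 0 - i * v 1) = _
      rw [Fin.sum_univ_one]
      linear_combination (v 1 * v 1) * hi
    rw [Nat.card_congr (oGroupCongr e he).toEquiv]
    zify [show 1 ≤ q by omega]
    rw [card_oGroup_plus hq 0]
    simp
  · have hns : ¬ IsSquare (-1 : F) := fun h => by
      have := FiniteField.isSquare_neg_one_iff.1 h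
      rw [← Nat.card_eq_fintype_card, hq] at this
      omega
    have hab : ∀ z₁ z₂ : F, z₁ ^ 2 + (0 : F) * z₁ * z₂ + 1 * z₂ ^ 2 = 0 → z₁ = 0 ∧ z₂ = 0 := by
      intro z₁ z₂ h
      have h' : z₁ * z₁ = -(z₂ * z₂) := by linear_combination h
      by_cases hz : z₂ = 0
      · subst hz; simp at h'; exact ⟨h', rfl⟩
      · exact absurd ⟨z₁ / z₂, by field_simp; linear_combination -h'⟩ hns
    let e : (Fin 2 → F) ≃ₗ[F] F × F := LinearEquiv.finTwoArrow F F
    have he : ∀ v, planeQ 0 1 (e v) = pl F v := fun v => by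
      rw [planeQ_apply, pl_apply]
      change v 0 ^ 2 + 0 * v 0 * v 1 + 1 * v 1 ^ 2 = _
      ring
    rw [Nat.card_congr (oGroupCongr e he).toEquiv, (oGroup_plane hab hq).1]

lemma finite_oGroup_pl : Finite (oGroup (pl F)) :=
  Finite.of_injective (fun g => (g.1 : (Fin 2 → F) → (Fin 2 → F)))
    fun g h e => Subtype.ext (LinearEquiv.ext (congrFun e))

/-- An isometry of determinant `-1` of the plane is a reflection. -/
lemma exists_refl_of_det (h2 : (2 : F) ≠ 0) (g : oGroup (pl F)) (hg : (detO (pl F) g : F) = -1) :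
    ∃ v, pl F v ≠ 0 ∧ g = refl (pl F) v := by
  set e0 : Fin 2 → F := ![1, 0]
  set e1 : Fin 2 → F := ![0, 1]
  set a := g.1 e0 0
  set b := g.1 e0 1
  set c := g.1 e1 0
  set d := g.1 e1 1
  have hdec : ∀ x : Fin 2 → F, x = x 0 • e0 + x 1 • e1 := fun x => by
    ext i; fin_cases i <;> simp [e0, e1]
  have q0 : a * a + b * b = 1 := by
    have := g.2 e0; rw [pl_apply, pl_apply] at this; simpa [e0, a, b] using this
  have q1 : c * c + d * d = 1 := by
    have := g.2 e1; rw [pl_apply, pl_apply] at this; simpa [e1, c, d] using this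
  have q01 : a * c + b * d = 0 := by
    have := polar_oGroup g e0 e1
    rw [pl_polar, pl_polar] at this
    simp [e0, e1] at this
    exact this.resolve_left h2
  have hdet : a * d - c * b = -1 := by
    rw [← hg, detO_val, ← LinearMap.det_toMatrix (Pi.basisFun F (Fin 2)), Matrix.det_fin_two]
    simp only [LinearMap.toMatrix_apply, Pi.basisFun_apply, Pi.basisFun_repr, LinearEquiv.coe_coe]
    rw [show (Pi.single 0 1 : Fin 2 → F) = e0 by ext i; fin_cases i <;> simp [e0],
      show (Pi.single 1 1 : Fin 2 → F) = e1 by ext i; fin_cases i <;> simp [e1]]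
  have hd : d = -a := by linear_combination (-d) * q0 + b * q01 + a * hdet
  have hc : c = b := by linear_combination (-c) * q0 + a * q01 + (-b) * hdet
  have hval : ∀ x : Fin 2 → F, g.1 x = ![x 0 * a + x 1 * b, x 0 * b - x 1 * a] := fun x => by
    conv_lhs => rw [hdec x, map_add, map_smul, map_smul]
    ext i
    fin_cases i
    · change x 0 * a + x 1 * c = _; simp [hc]
    · change x 0 * b + x 1 * d = _; simp [hd]; ring
  rcases eq_or_ne a 1 with ha | ha
  · have hb : b = 0 := by
      rw [ha] at q0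
      exact mul_self_eq_zero.1 (by linear_combination q0)
    refine ⟨e1, by simp [pl_apply, e1], Subtype.ext (LinearEquiv.ext fun x => ?_)⟩
    rw [hval, refl_apply]
    ext i
    fin_cases i <;> simp [pl_apply, pl_polar, e1, ha, hb] <;> ring
  · have hQv : pl F ![a - 1, b] = -2 * (a - 1) := by
      simp [pl_apply]; linear_combination q0
    have hQ0 : pl F ![a - 1, b] ≠ 0 := by
      rw [hQv]; exact mul_ne_zero (neg_ne_zero.2 h2) (sub_ne_zero.2 ha)
    refine ⟨![a - 1, b], hQ0, Subtype.ext (LinearEquiv.ext fun x => ?_)⟩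
    rw [hval, refl_apply, hQv]
    have ha1 : a - 1 ≠ 0 := sub_ne_zero.2 ha
    ext i
    fin_cases i
    · simp [pl_polar]; field_simp; ring
    · simp [pl_polar]; field_simp; linear_combination -(x 1) * q0

/-- The reflection vectors of the Sylow subgroup. -/
structure PlaneData (F : Type*) [Field F] where
  /-- The Sylow subgroup. -/
  D : Subgroup (oGroup (pl F))
  /-- Its reflection vectors. -/
  vecs : Set (Fin 2 → F)
  aniso : ∀ v ∈ vecs, pl F v ≠ 0
  refl_mem : ∀ v ∈ vecs, refl (pl F) v ∈ D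
  gen : D ≤ Subgroup.closure (refl (pl F) '' vecs)
  smul_mem : ∀ g ∈ D, ∀ v ∈ vecs, g.1 v ∈ vecs
  square : ∃ v ∈ vecs, IsSquare (pl F v)
  nonsquare : ∃ v ∈ vecs, ¬ IsSquare (pl F v)

theorem exists_planeData (h2 : (2 : F) ≠ 0) :
    ∃ P : PlaneData F, IsPGroup 2 P.D ∧
      Nat.card P.D = 2 ^ (torusExp (Nat.card F) + 1) := by
  haveI := Fintype.ofFinite F
  haveI : Fact (Nat.Prime 2) := ⟨Nat.prime_two⟩
  haveI := finite_oGroup_pl (F := F)
  obtain ⟨S⟩ := (inferInstance : Nonempty (Sylow 2 (oGroup (pl F))))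
  let R : Set (Fin 2 → F) := {v | pl F v ≠ 0 ∧ refl (pl F) v ∈ S}
  have hn : 2 ≤ Module.finrank F (Fin 2 → F) := by simp
  have hQ := pl_nondeg (F := F) h2
  obtain ⟨θ, hθ⟩ := exists_spinor hQ h2 hn
  obtain ⟨a, b, ha, hb, haS, hbS⟩ := exists_classes hQ h2 hn
  have ta : θ (refl (pl F) a) = 1 := (hθ a ha).mpr haS
  have tb : θ (refl (pl F) b) = -1 :=
    (Int.units_eq_one_or _).resolve_left fun e => hbS ((hθ b hb).mp e)
  have hnot : ∀ φ : oGroup (pl F) →* ℤˣ, (∃ g, φ g ≠ 1) → ¬ (S : Subgroup (oGroup (pl F))) ≤ φ.ker := by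
    rintro φ ⟨g, hg⟩ hle
    have h1 := Subgroup.index_dvd_of_le hle
    rw [index_ker_units φ hg] at h1
    exact S.not_dvd_index h1
  obtain ⟨r, hr, hrdet⟩ : ∃ r ∈ (S : Subgroup (oGroup (pl F))), detSign hQ h2 r ≠ 1 := by
    by_contra hc
    push Not at hc
    exact hnot (detSign hQ h2) ⟨refl (pl F) a, by rw [detSign_refl ha]; decide⟩ fun g hg => hc g hg
  have hneg : ∀ g, detSign hQ h2 g ≠ 1 → (detO (pl F) g : F) = -1 := fun g hg =>
    (detO_eq_or hQ g).resolve_left fun e => hg (detSign_eq_one.2 (Units.ext e))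
  have hrefl : ∀ g ∈ (S : Subgroup (oGroup (pl F))), detSign hQ h2 g ≠ 1 →
      g ∈ Subgroup.closure (refl (pl F) '' R) := by
    intro g hg hd
    obtain ⟨v, hv, rfl⟩ := exists_refl_of_det h2 g (hneg g hd)
    exact Subgroup.subset_closure ⟨v, ⟨hv, hg⟩, rfl⟩
  have hgen : (S : Subgroup (oGroup (pl F))) ≤ Subgroup.closure (refl (pl F) '' R) := by
    intro g hg
    by_cases hd : detSign hQ h2 g = 1
    · rw [show g = r⁻¹ * (r * g) by group]
      exact Subgroup.mul_mem _ (Subgroup.inv_mem _ (hrefl r hr hrdet))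
        (hrefl _ ((S : Subgroup (oGroup (pl F))).mul_mem hr hg) (by rw [map_mul, hd, mul_one]; exact hrdet))
    · exact hrefl g hg hd
  have hclass : ∀ φ : oGroup (pl F) →* ℤˣ, (∃ g, φ g ≠ 1) → ∃ v ∈ R, φ (refl (pl F) v) ≠ 1 := by
    intro φ hφ
    by_contra hc
    push Not at hc
    exact hnot φ hφ (hgen.trans ((Subgroup.closure_le _).2 fun g ⟨v, hv, e⟩ => e ▸ hc v hv))
  refine ⟨⟨S, R, fun v hv => hv.1, fun v hv => hv.2, hgen, fun g hg v hv => ?_, ?_, ?_⟩, S.isPGroup', ?_⟩
  · refine ⟨by rw [g.2]; exact hv.1, ?_⟩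
    rw [← refl_conj]
    exact (S : Subgroup (oGroup (pl F))).mul_mem ((S : Subgroup (oGroup (pl F))).mul_mem hg hv.2) ((S : Subgroup (oGroup (pl F))).inv_mem hg)
  · obtain ⟨v, hv, hv'⟩ := hclass (θ * detSign hQ h2) ⟨refl (pl F) a, by
      rw [MonoidHom.mul_apply, ta, detSign_refl ha, one_mul]; decide⟩
    refine ⟨v, hv, (hθ v hv.1).1 ((Int.units_eq_one_or _).resolve_right fun e => hv' ?_)⟩
    rw [MonoidHom.mul_apply, e, detSign_refl hv.1]; rfl
  · obtain ⟨v, hv, hv'⟩ := hclass θ ⟨refl (pl F) b, by rw [tb]; decide⟩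
    exact ⟨v, hv, fun hs => hv' ((hθ v hv.1).2 hs)⟩
  · have hq2 : 2 ≤ Nat.card F := Finite.one_lt_card
    have hx : (if Nat.card F % 4 = 1 then Nat.card F - 1 else Nat.card F + 1) ≠ 0 := by
      split_ifs <;> omega
    change Nat.card (S : Subgroup (oGroup (pl F))) = _
    rw [S.card_eq_multiplicity, card_oGroup_pl h2 rfl, Nat.factorization_def _ Nat.prime_two,
      padicValNat.mul two_ne_zero hx, padicValNat_self, torusExp, add_comm]

end CfsgLib.OrthSylow
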