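import Cfsg.Agent.OrthSylow.Main

/-!
# The three families of forms
-/

set_option autoImplicit false
set_option linter.style.haveILetI false

namespace CfsgLib.OrthSylow

open QuadraticMap CfsgLib.Quad CfsgLib.QuadStd

variable {F : Type*} [Field F] [Fintype F]

lemma card_facts (hF : Odd (Fintype.card F)) : Odd (Nat.card F) ∧ 3 ≤ Nat.card F := by
  rw [Nat.card_eq_fintype_card]
  have := Fintype.one_lt_card (α := F)
  obtain ⟨r, hr⟩ := hF
  exact ⟨⟨r, hr⟩, by omega⟩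

/-- Turn an integer order formula into a natural one. -/
lemma nat_card_eq {q e k X : ℕ} (hq : 2 ≤ q) {N : ℕ}
    (h : (N : ℤ) = 2 * (q : ℤ) ^ e * (X : ℤ) * ∏ i ∈ Finset.range k, ((q : ℤ) ^ (2 * (i + 1)) - 1)) :
    N = 2 * q ^ e * X * ∏ i ∈ Finset.range k, (q ^ (2 * (i + 1)) - 1) := by
  apply Nat.cast_injective (R := ℤ)
  rw [h]
  push_cast
  congr 1
  refine Finset.prod_congr rfl fun i _ => ?_
  rw [Nat.cast_sub (Nat.one_le_pow _ _ (by omega))]
  push_cast
  rfl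

theorem odd_type (hF : Odd (Fintype.card F)) (m : ℕ) (hm : 2 ≤ m)
    (P : Sylow 2 (Cfsg.Omega F (Cfsg.quadFormOdd m F))) :
    ∀ x : (P : Subgroup (Cfsg.Omega F (Cfsg.quadFormOdd m F))),
      x ^ 2 ∈ commutator (P : Subgroup (Cfsg.Omega F (Cfsg.quadFormOdd m F))) := by
  revert P
  rw [← oddQ_coe]
  intro P
  have h2 := two_ne_zero_of_odd hF
  obtain ⟨hodd, hq3⟩ := card_facts hF
  refine sq_mem_of_disc h2 (oddQ_nondeg h2 m) (k := m) (r := 1) hm
    (by simp only [Fintype.card_sum, Fintype.card_unit, Fintype.card_fin]; omega)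
    (c := fun _ => (-1) ^ m) (fun _ => pow_ne_zero _ (neg_ne_zero.2 one_ne_zero)) ?_ ?_ P
  · have hg : gram (oddQ (F := F) m) (Pi.basisFun F (Unit ⊕ (Fin m ⊕ Fin m))) =
        Matrix.fromBlocks (Matrix.diagonal fun _ => 2) 0 0 (Matrix.fromBlocks 0 1 1 0) := by
      ext (u | i | i) (v | j | j) <;>
        simp [gram, oddQ_coe, polar, Cfsg.quadFormOdd, Pi.single_apply, Matrix.one_apply,
          Finset.sum_add_distrib, add_mul, mul_add, eq_comm] <;> ring
    rw [hg, Matrix.det_fromBlocks_zero₂₁, Matrix.det_diagonal, det_swap_blocks]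
    simp only [Finset.prod_const, Finset.card_univ, Fintype.card_unit, pow_one, Fintype.card_fin]
    exact ⟨2 * (-1) ^ m, by ring⟩
  · have h := card_oGroup_odd (F := F) (q := Nat.card F) rfl h2 m
    rw [nat_card_eq (q := Nat.card F) (N := Nat.card (oGroup (oddQ (F := F) m))) (e := m ^ 2) (k := m)
      (X := 1) (by omega) (by rw [h, Nat.cast_one, mul_one]), mul_one, val_odd_type hodd hq3]

theorem plus_type (hF : Odd (Fintype.card F)) (m : ℕ) (hm : Even m ∧ 2 ≤ m ∨ 4 ≤ m)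
    (P : Sylow 2 (Cfsg.Omega F (Cfsg.quadFormPlus m F))) :
    ∀ x : (P : Subgroup (Cfsg.Omega F (Cfsg.quadFormPlus m F))),
      x ^ 2 ∈ commutator (P : Subgroup (Cfsg.Omega F (Cfsg.quadFormPlus m F))) := by
  revert P
  rw [← plusQ_coe]
  intro P
  have h2 := two_ne_zero_of_odd hF
  obtain ⟨hodd, hq3⟩ := card_facts hF
  haveI : Fact (Nat.Prime 2) := ⟨Nat.prime_two⟩
  obtain ⟨m, rfl⟩ : ∃ n, m = n + 1 := ⟨m - 1, by omega⟩
  have hg : (gram (plusQ (F := F) (m + 1)) (Pi.basisFun F (Fin (m + 1) ⊕ Fin (m + 1)))).det =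
      (-1) ^ (m + 1) := by rw [gram_plus, det_swap_blocks]
  have hX : Nat.card F ^ (m + 1) - 1 ≠ 0 := by
    have : 1 < Nat.card F ^ (m + 1) := Nat.one_lt_pow (by omega) (by omega)
    omega
  have hcard : Nat.card (oGroup (plusQ (F := F) (m + 1))) = 2 * Nat.card F ^ ((m + 1) * m) *
      (Nat.card F ^ (m + 1) - 1) * ∏ i ∈ Finset.range m, (Nat.card F ^ (2 * (i + 1)) - 1) :=
    nat_card_eq (by omega) (by
      rw [card_oGroup_plus (F := F) (q := Nat.card F) rfl m,
        Nat.cast_sub (Nat.one_le_pow _ _ (by omega))]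
      push_cast
      rfl)
  have ha := two_le_torusExp hodd hq3
  by_cases h4 : Nat.card F ^ (m + 1) % 4 = 1
  · obtain ⟨hv, -⟩ := (val_pow hodd hq3 (m + 1) (Nat.succ_ne_zero m)).1 h4
    refine sq_mem_of_disc h2 (plusQ_nondeg _) (k := m + 1) (r := 0) (by omega) (by simp; omega)
      (c := fun i => i.elim0) (fun i => i.elim0) ?_ ?_ P
    · rw [hg]
      simpa using (CfsgLib.Quad.isSquare_neg_one_pow_iff rfl hodd (m + 1)).2 h4
    · rw [hcard, val_even_type hodd hq3 m _ _ hX (Or.inl hv), if_neg (by omega)]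
      omega
  · obtain ⟨-, hv⟩ := (val_pow hodd hq3 (m + 1) (Nat.succ_ne_zero m)).2 h4
    have hk : 2 ≤ m := by
      rcases hm with ⟨he, -⟩ | h
      · exfalso
        obtain ⟨s, hs⟩ := he
        apply h4
        rw [hs, ← two_mul, pow_mul, Nat.pow_mod, Nat.pow_mod (Nat.card F) 2]
        have : Nat.card F % 4 = 1 ∨ Nat.card F % 4 = 3 := by obtain ⟨r, hr⟩ := hodd; omega
        rcases this with e | e <;> rw [e] <;> norm_num
      · omega
    refine sq_mem_of_disc h2 (plusQ_nondeg _) (k := m) (r := 2) hk (by simp; omega)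
      (c := ![1, (-1) ^ (m + 1)]) ?_ ?_ ?_ P
    · intro j; fin_cases j <;> simp
    · rw [hg, Fin.prod_univ_two]
      exact ⟨2 * (-1) ^ (m + 1), by simp; ring⟩
    · rw [hcard, val_even_type hodd hq3 m _ _ hX (Or.inr hv), if_pos hv]

theorem minus_type (hF : Odd (Fintype.card F)) (m : ℕ) (hm : 2 ≤ m) {a b : F}
    (hab : ∀ z₁ z₂ : F, z₁ ^ 2 + a * z₁ * z₂ + b * z₂ ^ 2 = 0 → z₁ = 0 ∧ z₂ = 0)
    (P : Sylow 2 (Cfsg.Omega F (Cfsg.quadFormMinus m F a b))) :
    ∀ x : (P : Subgroup (Cfsg.Omega F (Cfsg.quadFormMinus m F a b))),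
      x ^ 2 ∈ commutator (P : Subgroup (Cfsg.Omega F (Cfsg.quadFormMinus m F a b))) := by
  revert P
  rw [← minusQ_coe]
  intro P
  have h2 := two_ne_zero_of_odd hF
  obtain ⟨hodd, hq3⟩ := card_facts hF
  haveI : Fact (Nat.Prime 2) := ⟨Nat.prime_two⟩
  set d : F := 4 * b - a ^ 2 with hd
  have hd0 : d ≠ 0 := disc_ne_zero hab
  have hns : ¬ IsSquare (-d) := by
    rintro ⟨t, ht⟩
    have h4 : (4 : F) ≠ 0 := by
      rw [show (4 : F) = 2 * 2 by norm_num]; exact mul_ne_zero h2 h2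
    obtain ⟨-, h⟩ := hab ((t - a) / 2) 1 (by field_simp; linear_combination -ht)
    exact one_ne_zero h
  have hg := gram_minus (F := F) m a b
  rw [← hd] at hg
  have hX : Nat.card F ^ (m + 1) + 1 ≠ 0 := by omega
  have hcard : Nat.card (oGroup (minusQ (F := F) m a b)) = 2 * Nat.card F ^ ((m + 1) * m) *
      (Nat.card F ^ (m + 1) + 1) * ∏ i ∈ Finset.range m, (Nat.card F ^ (2 * (i + 1)) - 1) :=
    nat_card_eq (by omega) (by
      rw [card_oGroup_minus (F := F) (q := Nat.card F) rfl hab m]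
      push_cast
      rfl)
  have ha := two_le_torusExp hodd hq3
  by_cases h4 : Nat.card F ^ (m + 1) % 4 = 1
  · obtain ⟨-, hv⟩ := (val_pow hodd hq3 (m + 1) (Nat.succ_ne_zero m)).1 h4
    refine sq_mem_of_disc h2 (minusQ_nondeg hab m) (k := m) (r := 2) hm (by simp; omega)
      (c := ![1, (-1) ^ m * d]) ?_ ?_ ?_ P
    · intro j; fin_cases j <;> simp [hd0]
    · rw [hg, Fin.prod_univ_two]
      exact ⟨2 * ((-1) ^ m * d), by simp; ring⟩
    · rw [hcard, val_even_type hodd hq3 m _ _ hX (Or.inr hv), if_pos hv]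
  · obtain ⟨hv, -⟩ := (val_pow hodd hq3 (m + 1) (Nat.succ_ne_zero m)).2 h4
    refine sq_mem_of_disc h2 (minusQ_nondeg hab m) (k := m + 1) (r := 0) (by omega) (by simp; omega)
      (c := fun i => i.elim0) (fun i => i.elim0) ?_ ?_ P
    · rw [hg, Finset.univ_eq_empty, Finset.prod_empty, mul_one]
      have h3 : ¬ IsSquare ((-1 : F) ^ (m + 1)) := fun h =>
        h4 ((CfsgLib.Quad.isSquare_neg_one_pow_iff rfl hodd (m + 1)).1 h)
      have h5 := (CfsgLib.Quad.isSquare_mul_iff h2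
        (pow_ne_zero (m + 1) (neg_ne_zero.2 (one_ne_zero (α := F)))) (neg_ne_zero.2 hd0)).2
        (iff_of_false h3 hns)
      rwa [pow_succ, mul_neg_one, neg_mul_neg] at h5
    · rw [hcard, val_even_type hodd hq3 m _ _ hX (Or.inl hv), if_neg (by omega)]
      omega

end CfsgLib.OrthSylow
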